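import Cfsg.Prelude.Def_Local
import Cfsg.Prelude.Def_PLocal
import Cfsg.Prelude.Def_OddOrderLocal
import Cfsg.Prelude.Def_ConjugacyFunctors

/-!
Realizes the equation lemmas of the Prelude's recursive definitions in one module. Two copies of such a
lemma have different proofs, so they clash when statements are checked together; import this module in any
file that unfolds one of these definitions.
-/

set_option autoImplicit false
set_option linter.all false

namespace Cfsg.Agent.Base

theorem recEqnsRealized : True := by
  have := @Cfsg.upperPSeries.eq_def.{0}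
  have := @Cfsg.upperPSeries.eq_1.{0}
  have := @Cfsg.upperPSeries.eq_2.{0}
  have := @Cfsg.iterCommutator.eq_def.{0}
  have := @Cfsg.iterCommutator.eq_1.{0}
  have := @Cfsg.iterCommutator.eq_2.{0}
  have := @Cfsg.puigSeq.eq_def.{0}
  have := @Cfsg.puigSeq.eq_1.{0}
  have := @Cfsg.puigSeq.eq_2.{0}
  have := @Cfsg.functorTower.eq_def.{0}
  have := @Cfsg.functorTower.eq_1.{0}
  have := @Cfsg.functorTower.eq_2.{0}
  have := @Cfsg.kSeqOdd.eq_def.{0}
  have := @Cfsg.kSeqOdd.eq_1.{0}
  have := @Cfsg.kSeqOdd.eq_2.{0}
  trivial

end Cfsg.Agent.Base
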